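import Groth.Agent.SigmaLin.K985.Fixed
import Mathlib.RingTheory.LocalRing.ResidueField.Basic
import Mathlib.RingTheory.LocalRing.Quotient
import Mathlib.Algebra.Module.Torsion.Basic
import Mathlib.RingTheory.Finiteness.Finsupp
import Mathlib.RingTheory.Finiteness.Basic

/-!
# Semilinear endomorphisms of finite modules over a local ring with nilpotent maximal ideal `(p)`
-/

set_option autoImplicit false
universe u v

namespace K985.SigmaLin

section Local

open IsLocalRing

variable {R : Type u} [CommRing R] [IsLocalRing R] {σ : R →+* R}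
  {σbar : ResidueField R →+* ResidueField R}

/-- The reduction of `M` modulo the maximal ideal. -/
abbrev Red (R : Type u) [CommRing R] [IsLocalRing R] (M : Type v) [AddCommGroup M] [Module R M] :
    Type v := M ⧸ (maximalIdeal R • ⊤ : Submodule R M)

instance redModule (M : Type v) [AddCommGroup M] [Module R M] : Module (ResidueField R) (Red R M) :=
  inferInstanceAs (Module (R ⧸ maximalIdeal R) (M ⧸ (maximalIdeal R • ⊤ : Submodule R M)))

instance redFinite (M : Type v) [AddCommGroup M] [Module R M] [Module.Finite R M] :
    Module.Finite (ResidueField R) (Red R M) :=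
  inferInstanceAs (Module.Finite (R ⧸ maximalIdeal R) (M ⧸ (maximalIdeal R • ⊤ : Submodule R M)))

variable {M : Type v} [AddCommGroup M] [Module R M]

theorem residue_smul_red (r : R) (x : Red R M) : residue R r • x = r • x := rfl

theorem sigma_mem (hσbar : ∀ r : R, σbar (residue R r) = residue R (σ r)) {r : R}
    (hr : r ∈ maximalIdeal R) : σ r ∈ maximalIdeal R := by
  rw [← residue_eq_zero_iff] at hr ⊢
  rw [← hσbar, hr, map_zero]

theorem map_red_le (hσbar : ∀ r : R, σbar (residue R r) = residue R (σ r)) (T : M →ₛₗ[σ] M) :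
    (maximalIdeal R • ⊤ : Submodule R M) ≤ (maximalIdeal R • ⊤ : Submodule R M).comap T := by
  rw [Submodule.smul_le]
  intro r hr n _
  show T (r • n) ∈ (maximalIdeal R • ⊤ : Submodule R M)
  rw [LinearMap.map_smulₛₗ]
  exact Submodule.smul_mem_smul (sigma_mem hσbar hr) trivial

/-- The reduction of a semilinear endomorphism. -/
def redMap (hσbar : ∀ r : R, σbar (residue R r) = residue R (σ r)) (T : M →ₛₗ[σ] M) :
    Red R M →ₛₗ[σbar] Red R M where
  toFun := (maximalIdeal R • ⊤ : Submodule R M).mapQ (maximalIdeal R • ⊤ : Submodule R M) T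
    (map_red_le hσbar T)
  map_add' x y := map_add _ x y
  map_smul' c x := by
    obtain ⟨r, rfl⟩ := residue_surjective c
    rw [residue_smul_red, LinearMap.map_smulₛₗ, hσbar, residue_smul_red]

theorem redMap_mk (hσbar : ∀ r : R, σbar (residue R r) = residue R (σ r)) (T : M →ₛₗ[σ] M) (m : M) :
    redMap hσbar T (Submodule.Quotient.mk m) = Submodule.Quotient.mk (T m) := rfl

theorem mem_red_iff {p : ℕ} (hmax : maximalIdeal R = Ideal.span {(p : R)}) (m : M) :
    m ∈ (maximalIdeal R • ⊤ : Submodule R M) ↔ ∃ m' : M, m = (p : R) • m' := by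
  rw [hmax, Submodule.ideal_span_singleton_smul]
  constructor
  · rintro ⟨m', _, rfl⟩
    exact ⟨m', rfl⟩
  · rintro ⟨m', rfl⟩
    exact Submodule.smul_mem_pointwise_smul m' _ _ trivial

theorem sub_surjective_local {p : ℕ} (hmax : maximalIdeal R = Ideal.span {(p : R)}) (n : ℕ)
    (hn : (p : R) ^ n = 0)
    (hσbar : ∀ r : R, σbar (residue R r) = residue R (σ r))
    (hsurj : Function.Surjective σbar) (h2 : Cond2 σbar) (h3 : Cond3 σbar) [Module.Finite R M]
    (T : M →ₛₗ[σ] M) : Function.Surjective (fun m : M => m - T m) := by
  have key : ∀ m : M, ∃ a b : M, m = (a - T a) + (p : R) • b := by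
    intro m
    obtain ⟨a', ha'⟩ := sub_surjective (redMap hσbar T) hsurj h2 h3 (Submodule.Quotient.mk m)
    obtain ⟨a, rfl⟩ := Submodule.Quotient.mk_surjective _ a'
    have h : (Submodule.Quotient.mk (a - T a) : Red R M) = Submodule.Quotient.mk m := ha'
    rw [eq_comm, Submodule.Quotient.eq, mem_red_iff hmax] at h
    obtain ⟨b, hb⟩ := h
    exact ⟨a, b, by rw [← hb]; abel⟩
  have key2 : ∀ (j : ℕ) (m : M), ∃ a b : M, m = (a - T a) + (p : R) ^ j • b := by
    intro j
    induction j with
    | zero => intro m; exact ⟨0, m, by simp⟩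
    | succ j ih =>
      intro m
      obtain ⟨a, b, h⟩ := ih m
      obtain ⟨a', b', h'⟩ := key b
      refine ⟨a + (p : R) ^ j • a', b', ?_⟩
      rw [h, h', map_add, LinearMap.map_smulₛₗ, map_pow, map_natCast, smul_add, smul_sub, smul_smul,
        ← pow_succ]
      abel
  intro m
  obtain ⟨a, b, h⟩ := key2 n m
  exact ⟨a, by rw [hn, zero_smul, add_zero] at h; exact h.symm⟩

end Local

section FixedRing

variable {R : Type u} [CommRing R] {σ : R →+* R} {M : Type v} [AddCommGroup M] [Module R M]

/-- The subring of `σ`-fixed elements. -/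
abbrev fixRing (σ : R →+* R) : Subring R := σ.eqLocus (RingHom.id R)

/-- The fixed elements of a semilinear endomorphism, a module over the fixed ring. -/
def fixSub (T : M →ₛₗ[σ] M) : Submodule (fixRing σ) M where
  carrier := {m | T m = m}
  zero_mem' := map_zero T
  add_mem' := by
    intro a b ha hb
    show T (a + b) = a + b
    rw [map_add, show T a = a from ha, show T b = b from hb]
  smul_mem' := by
    intro c x hx
    show T ((c : R) • x) = (c : R) • x
    rw [LinearMap.map_smulₛₗ, show T x = x from hx, show σ c = c from c.2]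

theorem mem_fixSub (T : M →ₛₗ[σ] M) (m : M) : m ∈ fixSub T ↔ T m = m := Iff.rfl

open IsLocalRing in
theorem fixSub_fg [IsLocalRing R] {σbar : ResidueField R →+* ResidueField R} {p : ℕ}
    (hmax : maximalIdeal R = Ideal.span {(p : R)})
    (hσbar : ∀ r : R, σbar (residue R r) = residue R (σ r))
    (hlift : ∀ x : ResidueField R, σbar x = x → ∃ r : R, σ r = r ∧ residue R r = x)
    (n : ℕ) : ∀ (M : Type v) [AddCommGroup M] [Module R M] [Module.Finite R M] (T : M →ₛₗ[σ] M)
    (_ : ∀ m : M, (p : R) ^ n • m = 0), (fixSub T).FG := by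
  classical
  induction n with
  | zero =>
    intro M _ _ _ T h
    have : fixSub T = ⊥ := by
      rw [eq_bot_iff]
      intro m _
      rw [Submodule.mem_bot]
      simpa using h m
    rw [this]
    exact Submodule.fg_bot
  | succ n ih =>
    intro M _ _ _ T h
    -- the submodule pM
    let f : M →ₗ[R] M := LinearMap.lsmul R M (p : R)
    let P : Submodule R M := LinearMap.range f
    have hTP : ∀ m ∈ P, T m ∈ P := by
      rintro _ ⟨m, rfl⟩
      refine ⟨T m, ?_⟩
      show (p : R) • T m = T ((p : R) • m)
      rw [LinearMap.map_smulₛₗ, map_natCast]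
    let TP : P →ₛₗ[σ] P :=
      { toFun := fun m => ⟨T m, hTP m m.2⟩
        map_add' := fun x y => by ext; simp
        map_smul' := fun c x => by ext; simp }
    have hPfg : Module.Finite R P := Module.Finite.range f
    have h1 : (fixSub TP).FG := by
      apply ih P TP
      rintro ⟨_, ⟨m, rfl⟩⟩
      ext
      show (p : R) ^ n • ((p : R) • m) = 0
      rw [smul_smul, ← pow_succ]
      exact h m
    -- the map to the reduction
    let q : M →ₗ[fixRing σ] Red R M :=
      ((maximalIdeal R • ⊤ : Submodule R M).mkQ).restrictScalars (fixRing σ)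
    apply Submodule.fg_of_fg_map_of_fg_inf_ker q
    · -- the image
      obtain ⟨s, hs, hspan, hli⟩ := exists_linearIndependent (ResidueField R)
        (((fixSub T).map q : Submodule (fixRing σ) (Red R M)) : Set (Red R M))
      have hsfin : s.Finite := hli.setFinite
      refine ⟨hsfin.toFinset, ?_⟩
      apply le_antisymm
      · rw [Submodule.span_le]
        intro x hx
        exact hs (by simpa using hx)
      · intro x hx
        have hx' : x ∈ Submodule.span (ResidueField R) s := by
          rw [hspan]; exact Submodule.subset_span hx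
        obtain ⟨c, hcx⟩ := (Submodule.mem_span_finset (s := hsfin.toFinset) (x := x)).1 (by
          simpa using hx') |>.imp fun c hc => hc.2
        have hfix : ∀ y ∈ (fixSub T).map q, redMap hσbar T y = y := by
          rintro _ ⟨m, hm, rfl⟩
          show (Submodule.Quotient.mk (T m) : Red R M) = Submodule.Quotient.mk m
          rw [show T m = m from hm]
        have h5 : ∑ a ∈ hsfin.toFinset, (σbar (c a) - c a) • a = 0 := by
          have h6 : redMap hσbar T x = x := hfix x hx
          rw [← hcx, map_sum] at h6
          simp only [sub_smul, Finset.sum_sub_distrib]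
          rw [sub_eq_zero, ← h6]
          refine Finset.sum_congr rfl fun a ha => ?_
          rw [LinearMap.map_smulₛₗ, hfix a (hs (by simpa using ha))]
        have h7 : ∀ a ∈ hsfin.toFinset, σbar (c a) - c a = 0 := by
          have hli' : LinearIndepOn (ResidueField R) id (hsfin.toFinset : Set (Red R M)) := by
            rw [Set.Finite.coe_toFinset]
            exact hli
          rw [linearIndepOn_finset_iff] at hli'
          exact hli' (fun a => σbar (c a) - c a) h5
        rw [← hcx]
        refine Submodule.sum_mem _ fun a ha => ?_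
        obtain ⟨r, hr, hrc⟩ := hlift (c a) (sub_eq_zero.1 (h7 a ha))
        rw [← hrc, residue_smul_red]
        exact Submodule.smul_mem _ (⟨r, hr⟩ : fixRing σ) (Submodule.subset_span ha)
    · -- the kernel part
      have h8 : (fixSub T ⊓ LinearMap.ker q) =
          (fixSub TP).map (P.subtype.restrictScalars (fixRing σ)) := by
        ext m
        rw [Submodule.mem_inf, Submodule.mem_map]
        constructor
        · rintro ⟨hm1, hm2⟩
          have hm3 : m ∈ (maximalIdeal R • ⊤ : Submodule R M) := by
            have : (Submodule.Quotient.mk m : Red R M) = 0 := hm2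
            rwa [Submodule.Quotient.mk_eq_zero] at this
          rw [mem_red_iff hmax] at hm3
          obtain ⟨m', rfl⟩ := hm3
          exact ⟨⟨(p : R) • m', ⟨m', rfl⟩⟩, Subtype.ext hm1, rfl⟩
        · rintro ⟨⟨_, ⟨m', rfl⟩⟩, hm, rfl⟩
          refine ⟨congrArg Subtype.val hm, ?_⟩
          show (Submodule.Quotient.mk _ : Red R M) = 0
          rw [Submodule.Quotient.mk_eq_zero, mem_red_iff hmax]
          exact ⟨m', rfl⟩
      rw [h8]
      exact h1.map _

end FixedRing

end K985.SigmaLin
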