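import Mathlib.LinearAlgebra.FiniteDimensional.Lemmas
import Mathlib.LinearAlgebra.Basis.VectorSpace
import Mathlib.LinearAlgebra.Dimension.FreeAndStrongRankCondition
import Mathlib.Order.OrderIsoNat
import Mathlib.Data.Set.Function
import Mathlib.RingTheory.Artinian.Module
import Mathlib.LinearAlgebra.Dimension.OrzechProperty

/-!
# Semilinear endomorphisms: the stable part and the nilpotent part

`T : V →ₛₗ[σ] V` for a ring endomorphism `σ` of a field `k`.
-/

set_option autoImplicit false
universe u v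

namespace K985.SigmaLin

section Iter

variable {R : Type u} [CommRing R] {σ : R →+* R} {M : Type v} [AddCommGroup M] [Module R M]

theorem iter_zero (T : M →ₛₗ[σ] M) (n : ℕ) : (⇑T)^[n] 0 = 0 := by
  induction n with
  | zero => rfl
  | succ n ih => rw [Function.iterate_succ_apply', ih, map_zero]

theorem iter_add (T : M →ₛₗ[σ] M) (n : ℕ) (x y : M) :
    (⇑T)^[n] (x + y) = (⇑T)^[n] x + (⇑T)^[n] y := by
  induction n with
  | zero => rfl
  | succ n ih => simp only [Function.iterate_succ_apply', ih, map_add]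

theorem iter_sub (T : M →ₛₗ[σ] M) (n : ℕ) (x y : M) :
    (⇑T)^[n] (x - y) = (⇑T)^[n] x - (⇑T)^[n] y := by
  induction n with
  | zero => rfl
  | succ n ih => simp only [Function.iterate_succ_apply', ih, map_sub]

theorem iter_smul (T : M →ₛₗ[σ] M) (n : ℕ) (c : R) (x : M) :
    (⇑T)^[n] (c • x) = (⇑σ)^[n] c • (⇑T)^[n] x := by
  induction n with
  | zero => rfl
  | succ n ih => simp only [Function.iterate_succ_apply', ih, LinearMap.map_smulₛₗ]

theorem map_span_le (T : M →ₛₗ[σ] M) (s : Set M) {v : M} (hv : v ∈ Submodule.span R s) :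
    T v ∈ Submodule.span R (T '' s) := by
  induction hv using Submodule.span_induction with
  | mem x hx => exact Submodule.subset_span ⟨x, hx, rfl⟩
  | zero => rw [map_zero]; exact Submodule.zero_mem _
  | add x y _ _ hx hy => rw [map_add]; exact Submodule.add_mem _ hx hy
  | smul c x _ hx => rw [LinearMap.map_smulₛₗ]; exact Submodule.smul_mem _ _ hx

/-- span (range T^(n+1)) is the span of T applied to span (range T^n). -/
theorem span_range_succ (T : M →ₛₗ[σ] M) (n : ℕ) :
    Submodule.span R (Set.range ((⇑T)^[n + 1])) =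
      Submodule.span R (T '' (Submodule.span R (Set.range ((⇑T)^[n])) : Set M)) := by
  apply le_antisymm
  · rw [Submodule.span_le]
    rintro _ ⟨x, rfl⟩
    rw [Function.iterate_succ_apply']
    exact Submodule.subset_span ⟨_, Submodule.subset_span ⟨x, rfl⟩, rfl⟩
  · rw [Submodule.span_le]
    rintro _ ⟨x, hx, rfl⟩
    have := map_span_le T _ hx
    refine Submodule.span_mono ?_ this
    rintro _ ⟨_, ⟨y, rfl⟩, rfl⟩
    exact ⟨y, by rw [Function.iterate_succ_apply']⟩

theorem antitone_span (T : M →ₛₗ[σ] M) :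
    Antitone (fun n : ℕ => Submodule.span R (Set.range ((⇑T)^[n]))) := by
  apply antitone_nat_of_succ_le
  intro n
  apply Submodule.span_mono
  rintro _ ⟨x, rfl⟩
  exact ⟨T x, by rw [Function.iterate_succ_apply]⟩

/-- The stable part: the intersection of the spans of the images of the iterates. -/
def ssPart (T : M →ₛₗ[σ] M) : Submodule R M :=
  ⨅ n : ℕ, Submodule.span R (Set.range ((⇑T)^[n]))

theorem mem_ssPart_iff (T : M →ₛₗ[σ] M) (v : M) :
    v ∈ ssPart T ↔ ∀ n : ℕ, v ∈ Submodule.span R (Set.range ((⇑T)^[n])) := by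
  rw [ssPart, Submodule.mem_iInf]

end Iter

section Field

variable {k : Type u} [Field k] {σ : k →+* k} {V : Type v} [AddCommGroup V] [Module k V]
  [FiniteDimensional k V]

theorem exists_stable (T : V →ₛₗ[σ] V) :
    ∃ N : ℕ, ∀ n, N ≤ n → Submodule.span k (Set.range ((⇑T)^[n])) = ssPart T := by
  obtain ⟨N, hN⟩ := IsArtinian.monotone_stabilizes (R := k) (M := V)
    ⟨fun n => OrderDual.toDual (Submodule.span k (Set.range ((⇑T)^[n]))), fun a b h => antitone_span T h⟩
  have hN' : ∀ n, N ≤ n → Submodule.span k (Set.range ((⇑T)^[N])) =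
      Submodule.span k (Set.range ((⇑T)^[n])) := fun n hn => hN n hn
  have key : Submodule.span k (Set.range ((⇑T)^[N])) = ssPart T := by
    apply le_antisymm
    · refine le_iInf fun n => ?_
      rcases le_total N n with h | h
      · exact (hN' n h).le
      · exact antitone_span T h
    · exact iInf_le _ N
  exact ⟨N, fun n hn => by rw [← hN' n hn, key]⟩

theorem span_image_ssPart (T : V →ₛₗ[σ] V) :
    Submodule.span k (T '' (ssPart T : Set V)) = ssPart T := by
  obtain ⟨N, hN⟩ := exists_stable T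
  have h1 := span_range_succ T N
  rw [hN N le_rfl, hN (N + 1) (by omega)] at h1
  exact h1.symm

theorem map_mem_ssPart (T : V →ₛₗ[σ] V) {v : V} (hv : v ∈ ssPart T) : T v ∈ ssPart T := by
  rw [← span_image_ssPart T]
  exact Submodule.subset_span ⟨v, hv, rfl⟩

theorem iter_mem_ssPart (T : V →ₛₗ[σ] V) {v : V} (hv : v ∈ ssPart T) (n : ℕ) :
    (⇑T)^[n] v ∈ ssPart T := by
  induction n with
  | zero => exact hv
  | succ n ih => rw [Function.iterate_succ_apply']; exact map_mem_ssPart T ih

/-- A semilinear endomorphism whose image spans is injective. -/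
theorem injective_of_span_eq_top (T : V →ₛₗ[σ] V) (h : Submodule.span k (Set.range ⇑T) = ⊤) :
    Function.Injective T := by
  set b := Module.finBasis k V
  have hspan : ⊤ ≤ Submodule.span k (Set.range (fun i => T (b i))) := by
    rw [← h, Submodule.span_le]
    rintro _ ⟨x, rfl⟩
    have hx : x ∈ Submodule.span k (Set.range b) := by rw [b.span_eq]; trivial
    have := map_span_le T _ hx
    rw [← Set.range_comp] at this
    exact this
  have hli : LinearIndependent k (fun i => T (b i)) :=
    linearIndependent_of_top_le_span_of_card_eq_finrank hspan (by simp)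
  rw [injective_iff_map_eq_zero]
  intro x hx
  have hx' : ∑ i, σ (b.repr x i) • T (b i) = 0 := by
    rw [← b.sum_repr x, map_sum] at hx
    simpa [LinearMap.map_smulₛₗ] using hx
  have h0 := Fintype.linearIndependent_iff.1 hli _ hx'
  rw [← b.sum_repr x]
  apply Finset.sum_eq_zero
  intro i _
  have : b.repr x i = 0 := by
    have := h0 i
    rwa [map_eq_zero] at this
  rw [this, zero_smul]

/-- Restriction of `T` to the stable part. -/
def ssRestrict (T : V →ₛₗ[σ] V) : ssPart T →ₛₗ[σ] ssPart T where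
  toFun v := ⟨T v, map_mem_ssPart T v.2⟩
  map_add' x y := by ext; simp
  map_smul' c x := by ext; simp

@[simp] theorem ssRestrict_coe (T : V →ₛₗ[σ] V) (v : ssPart T) : (ssRestrict T v : V) = T v := rfl

theorem ssRestrict_span (T : V →ₛₗ[σ] V) :
    Submodule.span k (Set.range ⇑(ssRestrict T)) = ⊤ := by
  apply Submodule.map_injective_of_injective (f := (ssPart T).subtype) (Submodule.subtype_injective _)
  rw [Submodule.map_span, Submodule.map_top, Submodule.range_subtype, ← Set.range_comp]
  conv_rhs => rw [← span_image_ssPart T]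
  congr 1
  ext x
  constructor
  · rintro ⟨y, rfl⟩
    exact ⟨y, y.2, rfl⟩
  · rintro ⟨y, hy, rfl⟩
    exact ⟨⟨y, hy⟩, rfl⟩

theorem ssRestrict_injective (T : V →ₛₗ[σ] V) : Function.Injective (ssRestrict T) :=
  injective_of_span_eq_top _ (ssRestrict_span T)

theorem eq_zero_of_map_eq_zero (T : V →ₛₗ[σ] V) {v : V} (hv : v ∈ ssPart T) (h : T v = 0) :
    v = 0 := by
  have : (⟨v, hv⟩ : ssPart T) = 0 := ssRestrict_injective T (by ext; simp [h])
  exact congrArg Subtype.val this

theorem eq_zero_of_iter_eq_zero (T : V →ₛₗ[σ] V) (n : ℕ) {v : V} (hv : v ∈ ssPart T)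
    (h : (⇑T)^[n] v = 0) : v = 0 := by
  induction n with
  | zero => exact h
  | succ n ih =>
    rw [Function.iterate_succ_apply'] at h
    exact ih (eq_zero_of_map_eq_zero T (iter_mem_ssPart T hv n) h)

/-- The nilpotent part, a submodule. -/
def nilPart (T : V →ₛₗ[σ] V) : Submodule k V where
  carrier := {v : V | ∃ n : ℕ, (⇑T)^[n] v = 0}
  zero_mem' := ⟨0, rfl⟩
  add_mem' := by
    rintro x y ⟨n, hn⟩ ⟨m, hm⟩
    refine ⟨n + m, ?_⟩
    rw [iter_add, add_comm n m, Function.iterate_add_apply, hn, iter_zero, add_comm m n,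
      Function.iterate_add_apply, hm, iter_zero, add_zero]
  smul_mem' := by
    rintro c x ⟨n, hn⟩
    exact ⟨n, by rw [iter_smul, hn, smul_zero]⟩

omit [FiniteDimensional k V] in
theorem mem_nilPart_iff (T : V →ₛₗ[σ] V) (v : V) : v ∈ nilPart T ↔ ∃ n : ℕ, (⇑T)^[n] v = 0 := Iff.rfl

theorem nilPart_bound (T : V →ₛₗ[σ] V) : ∃ N : ℕ, ∀ v ∈ nilPart T, (⇑T)^[N] v = 0 := by
  obtain ⟨N, hN⟩ := exists_stable T
  refine ⟨N, fun v hv => ?_⟩
  obtain ⟨n, hn⟩ := hv
  have h1 : (⇑T)^[N] v ∈ ssPart T := by
    rw [← hN N le_rfl]; exact Submodule.subset_span ⟨v, rfl⟩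
  apply eq_zero_of_iter_eq_zero T n h1
  rw [← Function.iterate_add_apply, add_comm, Function.iterate_add_apply, hn, iter_zero]

/-- If `σ` is surjective then `T` is surjective on the stable part. -/
theorem ssRestrict_surjective (T : V →ₛₗ[σ] V) (hσ : Function.Surjective σ) :
    Function.Surjective (ssRestrict T) := by
  intro w
  have hw : w ∈ Submodule.span k (Set.range ⇑(ssRestrict T)) := by rw [ssRestrict_span]; trivial
  induction hw using Submodule.span_induction with
  | mem x hx => exact hx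
  | zero => exact ⟨0, map_zero _⟩
  | add x y _ _ hx hy =>
    obtain ⟨a, rfl⟩ := hx
    obtain ⟨b, rfl⟩ := hy
    exact ⟨a + b, map_add _ _ _⟩
  | smul c x _ hx =>
    obtain ⟨a, rfl⟩ := hx
    obtain ⟨c, rfl⟩ := hσ c
    exact ⟨c • a, LinearMap.map_smulₛₗ _ _ _⟩

theorem bijOn_ssPart (T : V →ₛₗ[σ] V) (hσ : Function.Surjective σ) :
    Set.BijOn (⇑T) (ssPart T : Set V) (ssPart T) := by
  refine ⟨fun v hv => map_mem_ssPart T hv, ?_, ?_⟩
  · intro x hx y hy h
    have h0 : T (x - y) = 0 := by rw [map_sub, h, sub_self]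
    exact sub_eq_zero.1 (eq_zero_of_map_eq_zero T ((ssPart T).sub_mem hx hy) h0)
  · intro y hy
    obtain ⟨x, hx⟩ := ssRestrict_surjective T hσ ⟨y, hy⟩
    exact ⟨x, x.2, congrArg Subtype.val hx⟩

theorem bijOn_iter_ssPart (T : V →ₛₗ[σ] V) (hσ : Function.Surjective σ) (n : ℕ) :
    Set.BijOn ((⇑T)^[n]) (ssPart T : Set V) (ssPart T) := (bijOn_ssPart T hσ).iterate n

theorem isCompl (T : V →ₛₗ[σ] V) (hσ : Function.Surjective σ) : IsCompl (nilPart T) (ssPart T) := by
  constructor
  · rw [Submodule.disjoint_def]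
    rintro x ⟨n, hn⟩ hx
    exact eq_zero_of_iter_eq_zero T n hx hn
  · rw [codisjoint_iff, eq_top_iff]
    intro v _
    obtain ⟨N, hN⟩ := exists_stable T
    have h1 : (⇑T)^[N] v ∈ ssPart T := by
      rw [← hN N le_rfl]; exact Submodule.subset_span ⟨v, rfl⟩
    obtain ⟨w, hw, hwv⟩ := (bijOn_iter_ssPart T hσ N).surjOn h1
    rw [Submodule.mem_sup]
    refine ⟨v - w, ⟨N, by rw [iter_sub, hwv, sub_self]⟩, w, hw, by abel⟩

end Field

end K985.SigmaLin
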