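import Groth.Agent.SigmaLin.K985.Basic
import Mathlib.LinearAlgebra.Quotient.Basic
import Mathlib.LinearAlgebra.LinearIndependent.Lemmas
import Mathlib.Algebra.BigOperators.Fin
import Mathlib.Tactic.LinearCombination
import Mathlib.Tactic.Abel
import Mathlib.Algebra.Module.BigOperators

/-!
# Fixed vectors of semilinear endomorphisms
-/

set_option autoImplicit false
universe u v

namespace K985.SigmaLin

/-- condition (i): the equation `x = ∑ σ^{i+1}(x) σ^i(b_{n-i})` has a nonzero solution. -/
def Cond2 {k : Type u} [Field k] (σ : k →+* k) : Prop :=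
  ∀ (n : ℕ) (b : Fin (n + 1) → k), b ≠ 0 →
      ∃ x : k, x ≠ 0 ∧ x = ∑ i : Fin (n + 1), (⇑σ)^[i.val + 1] x * (⇑σ)^[i.val] (b (Fin.rev i))

def Cond3 {k : Type u} [Field k] (σ : k →+* k) : Prop := ∀ c : k, ∃ y : k, σ y - y + c = 0

section Field

variable {k : Type u} [Field k] {σ : k →+* k} {V : Type v} [AddCommGroup V] [Module k V]
  [FiniteDimensional k V]

theorem iter_ringHom_zero {k : Type u} [Field k] (σ : k →+* k) (n : ℕ) : (⇑σ)^[n] 0 = 0 := by
  induction n with
  | zero => rfl
  | succ n ih => rw [Function.iterate_succ_apply', ih, map_zero]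

/-- The partial solutions `x_j = ∑_{i ≤ j} σ^{i+1}(x) σ^i(b_{j-i})`, defined recursively. -/
def xseq {k : Type u} [Field k] (σ : k →+* k) (b : ℕ → k) (x : k) : ℕ → k
  | 0 => σ x * b 0
  | j + 1 => σ (xseq σ b x j) + σ x * b (j + 1)

theorem xseq_eq {k : Type u} [Field k] (σ : k →+* k) (b : ℕ → k) (x : k) (j : ℕ) :
    xseq σ b x j = ∑ i ∈ Finset.range (j + 1), (⇑σ)^[i + 1] x * (⇑σ)^[i] (b (j - i)) := by
  induction j with
  | zero => simp [xseq]
  | succ j ih =>
    rw [xseq, ih, Finset.sum_range_succ' _ (j + 1), map_sum]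
    congr 1
    refine Finset.sum_congr rfl fun i _ => ?_
    rw [map_mul, ← Function.iterate_succ_apply' (⇑σ), ← Function.iterate_succ_apply' (⇑σ) i]
    have h : j + 1 - (i + 1) = j - i := by omega
    rw [h]

theorem exists_fixed_orbit (T : V →ₛₗ[σ] V) (h2 : Cond2 σ) (e : V)
    (he : ∀ m : ℕ, (⇑T)^[m] e ≠ 0) :
    ∃ v ∈ Submodule.span k (Set.range (fun m : ℕ => (⇑T)^[m] e)), v ≠ 0 ∧ T v = v := by
  classical
  set w : ℕ → V := fun m => (⇑T)^[m] e with hw
  -- the first m with w m in the span of the previous ones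
  have hex : ∃ m : ℕ, w m ∈ Submodule.span k (w '' Set.Iio m) := by
    by_contra hcon
    push Not at hcon
    have hli : LinearIndependent k w := by
      rw [linearIndependent_iff_finset_linearIndependent]
      intro s
      have key : ∀ N : ℕ, LinearIndependent k (fun i : Fin N => w i) := by
        intro N
        induction N with
        | zero => exact linearIndependent_empty_type
        | succ N ih =>
          have : (fun i : Fin (N + 1) => w i) = Fin.snoc (α := fun _ => V) (fun i : Fin N => w i) (w N) := by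
            ext i
            refine Fin.lastCases ?_ (fun j => ?_) i
            · simp
            · simp
          rw [this, linearIndependent_finSnoc]
          refine ⟨ih, fun h => hcon N ?_⟩
          refine Submodule.span_mono ?_ h
          rintro _ ⟨i, rfl⟩
          exact ⟨i, i.2, rfl⟩
      obtain ⟨N, hN⟩ : ∃ N, ∀ i ∈ s, i < N := ⟨s.sup id + 1, fun i hi => Nat.lt_succ_of_le (Finset.le_sup (f := id) hi)⟩
      have := (key N).comp (fun i : s => (⟨i.1, hN i.1 i.2⟩ : Fin N)) (by
        intro a b hab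
        exact Subtype.ext (by simpa using hab))
      exact this
    exact Infinite.not_finite (α := ℕ) hli.finite
  let m := Nat.find hex
  have hm : w m ∈ Submodule.span k (w '' Set.Iio m) := Nat.find_spec hex
  have hmin : ∀ j < m, w j ∉ Submodule.span k (w '' Set.Iio j) := fun j hj => Nat.find_min hex hj
  have hli : ∀ N ≤ m, LinearIndependent k (fun i : Fin N => w i) := by
    intro N
    induction N with
    | zero => intro _; exact linearIndependent_empty_type
    | succ N ih =>
      intro hN
      have : (fun i : Fin (N + 1) => w i) = Fin.snoc (α := fun _ => V) (fun i : Fin N => w i) (w N) := by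
        ext i
        refine Fin.lastCases ?_ (fun j => ?_) i
        · simp
        · simp
      rw [this, linearIndependent_finSnoc]
      refine ⟨ih (by omega), fun h => hmin N (by omega) ?_⟩
      refine Submodule.span_mono ?_ h
      rintro _ ⟨i, rfl⟩
      exact ⟨i, i.2, rfl⟩
  have hm0 : m ≠ 0 := by
    intro h0
    rw [h0] at hm
    have : w '' Set.Iio 0 = ∅ := by simp
    rw [this, Submodule.span_empty, Submodule.mem_bot] at hm
    exact he 0 hm
  obtain ⟨n, hn⟩ := Nat.exists_eq_succ_of_ne_zero hm0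
  -- coefficients
  have hrange : w '' Set.Iio m = Set.range (fun i : Fin (n + 1) => w i) := by
    ext y
    constructor
    · rintro ⟨i, hi, rfl⟩
      exact ⟨⟨i, by rw [Set.mem_Iio] at hi; omega⟩, rfl⟩
    · rintro ⟨i, rfl⟩
      exact ⟨i, by rw [Set.mem_Iio]; omega, rfl⟩
  rw [hrange, Submodule.mem_span_range_iff_exists_fun] at hm
  obtain ⟨b, hb⟩ := hm
  have hb0 : b ≠ 0 := by
    rintro rfl
    simp only [Pi.zero_apply, zero_smul, Finset.sum_const_zero] at hb
    exact he m hb.symm
  obtain ⟨x, hx0, hx⟩ := h2 n b hb0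
  set B : ℕ → k := fun i => if h : i < n + 1 then b ⟨i, h⟩ else 0 with hB
  have hBb : ∀ i : Fin (n + 1), B i = b i := fun i => dif_pos i.2
  have hxn : xseq σ B x n = x := by
    rw [xseq_eq, Finset.sum_range]
    conv_rhs => rw [hx]
    refine Finset.sum_congr rfl fun i _ => ?_
    congr 2
    rw [← hBb, Fin.val_rev]
    congr 1
    omega
  set v : V := ∑ i : Fin (n + 1), xseq σ B x i • w i with hv
  have hTw : ∀ i, T (w i) = w (i + 1) := fun i => by
    simp only [hw, Function.iterate_succ_apply']
  have hTv : T v = v := by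
    rw [hv, map_sum]
    simp only [LinearMap.map_smulₛₗ, hTw]
    rw [Fin.sum_univ_castSucc]
    simp only [Fin.val_castSucc, Fin.val_last]
    have hwn : w (n + 1) = ∑ i : Fin (n + 1), B i • w i := by
      have : w (n + 1) = w m := by rw [hn]
      rw [this, ← hb]
      exact Finset.sum_congr rfl fun i _ => by rw [hBb]
    rw [hxn, hwn, Finset.smul_sum]
    simp only [smul_smul]
    rw [Fin.sum_univ_succ (fun i : Fin (n+1) => (σ x * B i) • w i), Fin.sum_univ_succ (fun i : Fin (n+1) => xseq σ B x i • w i)]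
    simp only [Fin.val_zero, Fin.val_succ, xseq, add_smul, Finset.sum_add_distrib]
    abel
  refine ⟨v, ?_, ?_, hTv⟩
  · exact Submodule.sum_mem _ fun i _ => Submodule.smul_mem _ _ (Submodule.subset_span ⟨i, rfl⟩)
  · intro hv0
    have h := Fintype.linearIndependent_iff.1 (hli (n + 1) (by omega)) (fun i => xseq σ B x i)
      hv0 (Fin.last n)
    simp only [Fin.val_last] at h
    rw [hxn] at h
    exact hx0 h

/-- A nonzero vector is not killed by iterates when the image spans. -/
theorem exists_fixed_ne_zero (T : V →ₛₗ[σ] V) (h1 : Submodule.span k (Set.range ⇑T) = ⊤)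
    (h2 : Cond2 σ) [Nontrivial V] : ∃ v : V, v ≠ 0 ∧ T v = v := by
  obtain ⟨e, he⟩ := exists_ne (0 : V)
  have hinj := injective_of_span_eq_top T h1
  obtain ⟨v, _, hv, hT⟩ := exists_fixed_orbit T h2 e (fun m h => he (by
    have := hinj.iterate m
    exact this (by rw [h, iter_zero])))
  exact ⟨v, hv, hT⟩

/-- The span of the fixed vectors. -/
def fixSpan (T : V →ₛₗ[σ] V) : Submodule k V := Submodule.span k {v | T v = v}

omit [FiniteDimensional k V] in
theorem fixSpan_map (T : V →ₛₗ[σ] V) : fixSpan T ≤ (fixSpan T).comap T := by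
  rw [fixSpan, Submodule.span_le]
  intro v hv
  show T v ∈ Submodule.span k {v | T v = v}
  have hv' : T v = v := hv
  rw [hv']
  exact Submodule.subset_span hv

omit [FiniteDimensional k V] in
theorem fixSpan_sub (T : V →ₛₗ[σ] V) (h3 : Cond3 σ) (w : V) (hw : w ∈ fixSpan T) :
    ∃ v ∈ fixSpan T, v - T v = w := by
  induction hw using Submodule.span_induction with
  | mem x hx =>
    obtain ⟨y, hy⟩ := h3 1
    refine ⟨y • x, Submodule.smul_mem _ _ (Submodule.subset_span hx), ?_⟩
    have hx' : T x = x := hx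
    rw [LinearMap.map_smulₛₗ, hx', ← sub_smul]
    have : y - σ y = 1 := by linear_combination -hy
    rw [this, one_smul]
  | zero => exact ⟨0, Submodule.zero_mem _, by simp⟩
  | add x y _ _ hx hy =>
    obtain ⟨a, ha, rfl⟩ := hx
    obtain ⟨b, hb, rfl⟩ := hy
    exact ⟨a + b, Submodule.add_mem _ ha hb, by rw [map_add]; abel⟩
  | smul c x hx' hx => 
    -- need the finite expansion: do it on the span directly
    clear hx
    obtain ⟨f, t, hft, -, rfl⟩ := Submodule.mem_span_iff_exists_finset_subset.1 hx'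
    choose y hy using fun a : V => h3 (c * f a)
    refine ⟨∑ a ∈ t, y a • a, ?_, ?_⟩
    · exact Submodule.sum_mem _ fun a ha => Submodule.smul_mem _ _ (Submodule.subset_span (hft ha))
    · rw [map_sum, ← Finset.sum_sub_distrib, Finset.smul_sum]
      refine Finset.sum_congr rfl fun a ha => ?_
      have hTa : T a = a := hft ha
      rw [LinearMap.map_smulₛₗ, hTa, ← sub_smul, smul_smul]
      congr 1
      linear_combination -(hy a)

theorem fixSpan_eq_top (T : V →ₛₗ[σ] V) (h1 : Submodule.span k (Set.range ⇑T) = ⊤)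
    (h2 : Cond2 σ) (h3 : Cond3 σ) : fixSpan T = ⊤ := by
  by_contra hne
  have : Nontrivial (V ⧸ fixSpan T) := Submodule.Quotient.nontrivial_iff.2 hne
  let T' : (V ⧸ fixSpan T) →ₛₗ[σ] (V ⧸ fixSpan T) := (fixSpan T).mapQ (fixSpan T) T (fixSpan_map T)
  have hT' : ∀ v : V, T' (Submodule.Quotient.mk v) = Submodule.Quotient.mk (T v) := fun v => rfl
  have hs : Submodule.span k (Set.range ⇑T') = ⊤ := by
    rw [eq_top_iff]
    rintro x -
    obtain ⟨x, rfl⟩ := Submodule.Quotient.mk_surjective _ x
    have hx : x ∈ Submodule.span k (Set.range ⇑T) := by rw [h1]; trivial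
    induction hx using Submodule.span_induction with
    | mem x hx =>
      obtain ⟨y, rfl⟩ := hx
      exact Submodule.subset_span ⟨Submodule.Quotient.mk y, rfl⟩
    | zero => exact Submodule.zero_mem _
    | add x y _ _ hx hy => exact Submodule.add_mem _ hx hy
    | smul c x _ hx => exact Submodule.smul_mem _ c hx
  obtain ⟨w', hw'0, hw'⟩ := exists_fixed_ne_zero T' hs h2
  obtain ⟨w, rfl⟩ := Submodule.Quotient.mk_surjective _ w'
  rw [hT', Submodule.Quotient.eq] at hw'
  obtain ⟨v, hv, hvw⟩ := fixSpan_sub T h3 _ hw'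
  apply hw'0
  rw [Submodule.Quotient.mk_eq_zero]
  have : T (w + v) = w + v := by
    rw [map_add]
    have : T w = w + (v - T v) := by rw [hvw]; abel
    rw [this]; abel
  have h5 : w + v ∈ fixSpan T := Submodule.subset_span this
  have h6 := Submodule.sub_mem _ h5 hv
  rwa [add_sub_cancel_right] at h6

theorem sub_surjective_of_span (T : V →ₛₗ[σ] V) (h1 : Submodule.span k (Set.range ⇑T) = ⊤)
    (h2 : Cond2 σ) (h3 : Cond3 σ) : Function.Surjective (fun v : V => v - T v) := by
  intro w
  obtain ⟨v, _, hv⟩ := fixSpan_sub T h3 w (by rw [fixSpan_eq_top T h1 h2 h3]; trivial)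
  exact ⟨v, hv⟩

theorem exists_basis_fixed (T : V →ₛₗ[σ] V) (h1 : Submodule.span k (Set.range ⇑T) = ⊤)
    (h2 : Cond2 σ) (h3 : Cond3 σ) :
    ∃ b : Module.Basis (Fin (Module.finrank k V)) k V, ∀ i, T (b i) = b i := by
  obtain ⟨s, hs, hspan, hli⟩ := exists_linearIndependent k {v : V | T v = v}
  have htop : Submodule.span k {v : V | T v = v} = ⊤ := fixSpan_eq_top T h1 h2 h3
  let b0 : Module.Basis s k V := Module.Basis.mk hli (by
    rw [Subtype.range_coe, hspan, htop])
  have : Finite s := Module.Finite.finite_basis b0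
  let _ : Fintype s := Fintype.ofFinite s
  let eq : s ≃ Fin (Module.finrank k V) := Fintype.equivFinOfCardEq (by
    rw [Module.finrank_eq_card_basis b0])
  refine ⟨b0.reindex eq, fun i => ?_⟩
  have : (b0.reindex eq) i = ((eq.symm i : s) : V) := by
    rw [Module.Basis.reindex_apply]; exact Module.Basis.mk_apply _ _ _
  rw [this]
  exact hs (eq.symm i).2

theorem sub_surjective (T : V →ₛₗ[σ] V) (hσ : Function.Surjective σ)
    (h2 : Cond2 σ) (h3 : Cond3 σ) : Function.Surjective (fun v : V => v - T v) := by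
  intro w
  have hc := isCompl T hσ
  obtain ⟨a, ha, b, hb, rfl⟩ : ∃ a ∈ nilPart T, ∃ b ∈ ssPart T, a + b = w := by
    rw [← Submodule.mem_sup, hc.sup_eq_top]; trivial
  obtain ⟨b', hb'⟩ := sub_surjective_of_span (ssRestrict T) (ssRestrict_span T) h2 h3 ⟨b, hb⟩
  obtain ⟨n, hn⟩ := ha
  refine ⟨(∑ i ∈ Finset.range n, (⇑T)^[i] a) + b', ?_⟩
  have h5 : (b' : V) - T b' = b := congrArg Subtype.val hb'
  have h6 : (∑ i ∈ Finset.range n, (⇑T)^[i] a) - T (∑ i ∈ Finset.range n, (⇑T)^[i] a) = a := by
    rw [map_sum]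
    simp only [← Function.iterate_succ_apply' (f := ⇑T)]
    rw [← Finset.sum_sub_distrib, Finset.sum_range_sub' (fun i => (⇑T)^[i] a), hn, sub_zero]
    rfl
  show _ - T (_ + _) = _
  rw [map_add, ← h5]
  conv_rhs => rw [← h6]
  abel

end Field

end K985.SigmaLin
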