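import Groth.Agent.SigmaLin.K985.Fixed
import Mathlib.FieldTheory.IsAlgClosed.Basic
import Mathlib.FieldTheory.Perfect
import Mathlib.Algebra.Polynomial.RingDivision

/-!
# The two solvability conditions for (inverse) Frobenius over an algebraically closed field
-/

set_option autoImplicit false
universe u v

namespace K985.SigmaLin

open Polynomial

/-- A polynomial with two different nonzero coefficients over an algebraically closed field has a
nonzero root. -/
theorem exists_ne_zero_root {k : Type u} [Field k] [IsAlgClosed k] (P : k[X]) (i j : ℕ)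
    (hij : i ≠ j) (hi : P.coeff i ≠ 0) (hj : P.coeff j ≠ 0) : ∃ x : k, x ≠ 0 ∧ P.eval x = 0 := by
  have hP : P ≠ 0 := by rintro rfl; exact hi (coeff_zero i)
  obtain ⟨Q, hQ, hnd⟩ := exists_eq_pow_rootMultiplicity_mul_and_not_dvd P hP 0
  rw [C_0, sub_zero] at hQ hnd
  rw [X_dvd_iff] at hnd
  have hQ0 : Q ≠ 0 := by rintro rfl; exact hnd (coeff_zero 0)
  by_cases hdeg : Q.degree = 0
  · exfalso
    rw [eq_C_of_degree_eq_zero hdeg] at hQ
    set m := rootMultiplicity 0 P
    have hc : ∀ l, P.coeff l ≠ 0 → l = m := by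
      intro l hl
      rw [hQ, coeff_mul_C, coeff_X_pow] at hl
      by_contra hne
      rw [if_neg hne, zero_mul] at hl
      exact hl rfl
    exact hij ((hc i hi).trans (hc j hj).symm)
  · obtain ⟨x, hx⟩ := IsAlgClosed.exists_root Q hdeg
    refine ⟨x, ?_, ?_⟩
    · rintro rfl
      apply hnd
      rw [coeff_zero_eq_eval_zero]
      exact hx
    · rw [hQ, eval_mul, show Q.eval x = 0 from hx, mul_zero]

variable (p : ℕ) [hp : Fact p.Prime] (k : Type u) [Field k] [CharP k p] [IsAlgClosed k]

theorem cond2_frobenius : Cond2 (frobenius k p) := by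
  intro n b hb
  obtain ⟨i0, hi0⟩ : ∃ i, b i ≠ 0 := by
    by_contra h; push Not at h; exact hb (funext h)
  have hp1 : 1 < p := hp.out.one_lt
  let P : k[X] := ∑ i : Fin (n + 1), C ((b (Fin.rev i)) ^ p ^ i.val) * X ^ (p ^ (i.val + 1)) - X
  have hcoeff : ∀ l, P.coeff l = (∑ i : Fin (n + 1), if l = p ^ (i.val + 1) then
      (b (Fin.rev i)) ^ p ^ i.val else 0) - if l = 1 then 1 else 0 := by
    intro l
    simp only [P, coeff_sub, finsetSum_coeff, coeff_C_mul, coeff_X_pow, mul_ite, mul_one, mul_zero,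
      coeff_X]
    congr 1
    simp only [eq_comm]
  have hpow : ∀ i : ℕ, p ^ (i + 1) ≠ 1 := fun i => (Nat.one_lt_pow (Nat.succ_ne_zero i) hp1).ne'
  obtain ⟨x, hx0, hx⟩ := exists_ne_zero_root P 1 (p ^ ((Fin.rev i0).val + 1)) (hpow _).symm
    (by
      rw [hcoeff, if_pos rfl, Finset.sum_eq_zero, zero_sub]
      · exact neg_ne_zero.2 one_ne_zero
      · intro i _
        rw [if_neg (hpow i).symm])
    (by
      rw [hcoeff, if_neg (hpow _), sub_zero, Finset.sum_eq_single (Fin.rev i0)]
      · rw [if_pos rfl, Fin.rev_rev]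
        exact pow_ne_zero _ hi0
      · intro j _ hj
        rw [if_neg]
        intro h
        have := Nat.pow_right_injective hp1 h
        exact hj (Fin.ext (by omega))
      · intro h; exact absurd (Finset.mem_univ _) h)
  refine ⟨x, hx0, ?_⟩
  simp only [P, eval_sub, eval_finsetSum, eval_mul, eval_C, eval_pow, eval_X] at hx
  rw [sub_eq_zero] at hx
  conv_lhs => rw [← hx]
  refine Finset.sum_congr rfl fun i _ => ?_
  rw [iterate_frobenius, iterate_frobenius, mul_comm]

theorem cond3_frobenius : Cond3 (frobenius k p) := by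
  intro c
  have hp1 : 1 < p := hp.out.one_lt
  let P : k[X] := X ^ p - X + C c
  have hdeg : P.degree ≠ 0 := by
    intro h0
    have h1 : P.coeff p = 1 := by
      have h2 : (1 : ℕ) ≠ p := hp1.ne
      simp [P, coeff_X, h2, coeff_C, hp.out.ne_zero]
    rw [eq_C_of_degree_eq_zero h0, coeff_C, if_neg hp.out.ne_zero] at h1
    exact zero_ne_one h1
  obtain ⟨x, hx⟩ := IsAlgClosed.exists_root P hdeg
  refine ⟨x, ?_⟩
  have : P.eval x = 0 := hx
  simpa [P, frobenius_def] using this

theorem frob_iter_inv (i : ℕ) (x : k) :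
    (⇑(frobeniusEquiv k p).symm.toRingHom)^[i] (x ^ p ^ i) = x := by
  induction i generalizing x with
  | zero => simp
  | succ i ih =>
    rw [Function.iterate_succ_apply, pow_succ, pow_mul]
    have : (frobeniusEquiv k p).symm.toRingHom ((x ^ p ^ i) ^ p) = x ^ p ^ i :=
      frobeniusEquiv_symm_pow k p _
    rw [this, ih]

theorem frob_iter_inv' (i n : ℕ) (h : i ≤ n) (x : k) :
    (⇑(frobeniusEquiv k p).symm.toRingHom)^[i] (x ^ p ^ n) = x ^ p ^ (n - i) := by
  have : x ^ p ^ n = (x ^ p ^ (n - i)) ^ p ^ i := by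
    rw [← pow_mul, ← pow_add]
    congr 2; omega
  rw [this, frob_iter_inv]

theorem cond2_frobeniusInv : Cond2 (frobeniusEquiv k p).symm.toRingHom := by
  intro n b hb
  obtain ⟨i0, hi0⟩ : ∃ i, b i ≠ 0 := by
    by_contra h; push Not at h; exact hb (funext h)
  have hp1 : 1 < p := hp.out.one_lt
  set g := (frobeniusEquiv k p).symm.toRingHom with hg
  have hginj : Function.Injective (⇑g) := g.injective
  have hg0 : ∀ i : ℕ, (⇑g)^[i] 0 = 0 := iter_ringHom_zero g
  let P : k[X] := ∑ i : Fin (n + 1), C ((⇑g)^[i.val] (b (Fin.rev i))) * X ^ (p ^ (n - i.val)) -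
    X ^ (p ^ (n + 1))
  have hcoeff : ∀ l, P.coeff l = (∑ i : Fin (n + 1), if l = p ^ (n - i.val) then
      (⇑g)^[i.val] (b (Fin.rev i)) else 0) - if l = p ^ (n + 1) then 1 else 0 := by
    intro l
    simp only [P, coeff_sub, finsetSum_coeff, coeff_C_mul, coeff_X_pow, mul_ite, mul_one, mul_zero]
  have hpow : ∀ i : ℕ, p ^ (n + 1) ≠ p ^ (n - i) := fun i h => by
    have := Nat.pow_right_injective hp1 h
    omega
  obtain ⟨y, hy0, hy⟩ := exists_ne_zero_root P (p ^ (n + 1)) (p ^ (n - (Fin.rev i0).val))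
    (hpow _)
    (by
      rw [hcoeff, if_pos rfl, Finset.sum_eq_zero, zero_sub]
      · exact neg_ne_zero.2 one_ne_zero
      · intro i _
        rw [if_neg (hpow i)])
    (by
      rw [hcoeff, if_neg (hpow _).symm, sub_zero, Finset.sum_eq_single (Fin.rev i0)]
      · rw [if_pos rfl, Fin.rev_rev]
        intro h
        apply hi0
        exact hginj.iterate _ (h.trans (hg0 _).symm)
      · intro j _ hj
        rw [if_neg]
        intro h
        have h2 := Nat.pow_right_injective hp1 h
        have h3 := (Fin.rev i0).2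
        have h4 := j.2
        exact hj (Fin.ext (by omega))
      · intro h; exact absurd (Finset.mem_univ _) h)
  refine ⟨y ^ p ^ (n + 1), pow_ne_zero _ hy0, ?_⟩
  simp only [P, eval_sub, eval_finsetSum, eval_mul, eval_C, eval_pow, eval_X] at hy
  rw [sub_eq_zero] at hy
  conv_lhs => rw [← hy]
  refine Finset.sum_congr rfl fun i _ => ?_
  rw [hg, frob_iter_inv' p k (i.val + 1) (n + 1) (by omega), mul_comm]
  congr 3
  omega

theorem cond3_frobeniusInv : Cond3 (frobeniusEquiv k p).symm.toRingHom := by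
  intro c
  obtain ⟨z, hz⟩ := cond3_frobenius p k (-c)
  refine ⟨z ^ p, ?_⟩
  have h : (frobeniusEquiv k p).symm.toRingHom (z ^ p) = z := frobeniusEquiv_symm_pow k p z
  rw [h]
  rw [frobenius_def] at hz
  linear_combination -hz

theorem surjective_frobenius : Function.Surjective (frobenius k p) :=
  (frobeniusEquiv k p).surjective

theorem surjective_frobeniusInv :
    Function.Surjective (frobeniusEquiv k p).symm.toRingHom :=
  (frobeniusEquiv k p).symm.surjective

end K985.SigmaLin
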