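import Groth.Agent.SigmaLin.K985.Local
import Groth.Agent.SigmaLin.K985.AlgClosed
import Groth.Prelude.Def_WittGrp
import Mathlib.RingTheory.WittVector.Complete
import Mathlib.RingTheory.WittVector.DiscreteValuationRing
import Mathlib.RingTheory.WittVector.Teichmuller
import Mathlib.Data.ZMod.Basic
import Mathlib.FieldTheory.Finite.Basic

/-!
# Semilinear endomorphisms of finite modules over truncated Witt vectors
-/

set_option autoImplicit false
universe u v

namespace K985.SigmaLin

theorem iter_conj {K K' : Type u} [Field K] [Field K'] (e : K' ≃+* K) (f : K →+* K) (g : K' →+* K')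
    (h : ∀ x, e (g x) = f (e x)) (i : ℕ) (x : K') : e ((⇑g)^[i] x) = (⇑f)^[i] (e x) := by
  induction i with
  | zero => rfl
  | succ i ih => rw [Function.iterate_succ_apply', h, ih, Function.iterate_succ_apply']

theorem cond2_transfer {K K' : Type u} [Field K] [Field K'] (e : K' ≃+* K) (f : K →+* K)
    (g : K' →+* K') (h : ∀ x, e (g x) = f (e x)) (h2 : Cond2 f) : Cond2 g := by
  intro n b hb
  obtain ⟨x, hx0, hx⟩ := h2 n (fun i => e (b i)) (by
    intro h0
    apply hb
    funext i
    have := congrFun h0 i
    simpa using this)
  refine ⟨e.symm x, by simpa using hx0, ?_⟩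
  apply e.injective
  rw [map_sum, e.apply_symm_apply]
  conv_lhs => rw [hx]
  refine Finset.sum_congr rfl fun i _ => ?_
  rw [map_mul, iter_conj e f g h, iter_conj e f g h, e.apply_symm_apply]

theorem cond3_transfer {K K' : Type u} [Field K] [Field K'] (e : K' ≃+* K) (f : K →+* K)
    (g : K' →+* K') (h : ∀ x, e (g x) = f (e x)) (h3 : Cond3 f) : Cond3 g := by
  intro c
  obtain ⟨y, hy⟩ := h3 (e c)
  refine ⟨e.symm y, ?_⟩
  apply e.injective
  rw [map_add, map_sub, h, e.apply_symm_apply, map_zero, hy]

section Witt

variable (p : ℕ) [hp : Fact p.Prime] (k : Type u) [Field k] [CharP k p] (n : ℕ)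

/-- The zeroth component of a truncated Witt vector, as a ring homomorphism. -/
noncomputable def c0 (hn : 0 < n) : TruncatedWittVector p n k →+* k where
  toFun x := x.coeff ⟨0, hn⟩
  map_one' := by
    rw [← map_one (WittVector.truncate (p := p) (R := k) n), WittVector.coeff_truncate]
    exact WittVector.one_coeff_zero p k
  map_zero' := by
    rw [← map_zero (WittVector.truncate (p := p) (R := k) n), WittVector.coeff_truncate]
    exact WittVector.zero_coeff p k 0
  map_mul' x y := by
    obtain ⟨X, rfl⟩ := WittVector.truncate_surjective p n k x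
    obtain ⟨Y, rfl⟩ := WittVector.truncate_surjective p n k y
    rw [← map_mul, WittVector.coeff_truncate, WittVector.coeff_truncate, WittVector.coeff_truncate]
    exact WittVector.mul_coeff_zero X Y
  map_add' x y := by
    obtain ⟨X, rfl⟩ := WittVector.truncate_surjective p n k x
    obtain ⟨Y, rfl⟩ := WittVector.truncate_surjective p n k y
    rw [← map_add, WittVector.coeff_truncate, WittVector.coeff_truncate, WittVector.coeff_truncate]
    exact WittVector.add_coeff_zero X Y

theorem c0_truncate (hn : 0 < n) (X : WittVector p k) :
    c0 p k n hn (WittVector.truncate n X) = X.coeff 0 :=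
  WittVector.coeff_truncate X ⟨0, hn⟩

theorem c0_surjective (hn : 0 < n) : Function.Surjective (c0 p k n hn) := fun x =>
  ⟨WittVector.truncate n (WittVector.teichmuller p x), by
    rw [c0_truncate]
    exact WittVector.teichmuller_coeff_zero p x⟩

theorem c0_truncMap (hn : 0 < n) (f : k →+* k) (x : TruncatedWittVector p n k) :
    c0 p k n hn (WittGrp.truncMap p n f x) = f (c0 p k n hn x) :=
  WittGrp.coeff_truncMap p n f x ⟨0, hn⟩

theorem nontrivial_trunc (hn : 0 < n) : Nontrivial (TruncatedWittVector p n k) :=
  (c0 p k n hn).domain_nontrivial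

variable [PerfectRing k p]

theorem isLocalRing_trunc (hn : 0 < n) : IsLocalRing (TruncatedWittVector p n k) := by
  have := nontrivial_trunc p k n hn
  exact IsLocalRing.of_surjective' (WittVector.truncate (p := p) (R := k) n)
    (WittVector.truncate_surjective p n k)

theorem ker_c0 (hn : 0 < n) :
    RingHom.ker (c0 p k n hn) = Ideal.span {(p : TruncatedWittVector p n k)} := by
  apply le_antisymm
  · intro x hx
    obtain ⟨X, rfl⟩ := WittVector.truncate_surjective p n k x
    have hX : X.coeff 0 = 0 := by
      have : TruncatedWittVector.coeff ⟨0, hn⟩ (WittVector.truncate n X) = 0 := hx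
      rwa [WittVector.coeff_truncate] at this
    rw [← WittVector.mem_span_p_iff_coeff_zero_eq_zero, Ideal.mem_span_singleton] at hX
    obtain ⟨Y, hY⟩ := hX
    rw [Ideal.mem_span_singleton]
    exact ⟨WittVector.truncate n Y, by rw [hY, map_mul, map_natCast]⟩
  · rw [Ideal.span_singleton_le_iff_mem, RingHom.mem_ker, map_natCast, CharP.cast_eq_zero]

theorem maximalIdeal_trunc [IsLocalRing (TruncatedWittVector p n k)] (hn : 0 < n) :
    IsLocalRing.maximalIdeal (TruncatedWittVector p n k) =
      Ideal.span {(p : TruncatedWittVector p n k)} := by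
  rw [← ker_c0 p k n hn]
  exact (IsLocalRing.eq_maximalIdeal (RingHom.ker_isMaximal_of_surjective _
    (c0_surjective p k n hn))).symm

theorem p_pow_eq_zero : (p : TruncatedWittVector p n k) ^ n = 0 := by
  have h : WittVector.truncate n ((p : WittVector p k) ^ n) = 0 := by
    rw [← RingHom.mem_ker, WittVector.mem_ker_truncate]
    have := (WittVector.mem_span_p_pow_iff_le_coeff_eq_zero ((p : WittVector p k) ^ n) n).1
      (Ideal.mem_span_singleton_self _)
    exact this
  rwa [map_pow, map_natCast] at h

/-- The residue field of the truncated Witt vectors is `k`. -/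
noncomputable def resEquiv [IsLocalRing (TruncatedWittVector p n k)] (hn : 0 < n) :
    IsLocalRing.ResidueField (TruncatedWittVector p n k) ≃+* k :=
  (Ideal.quotEquivOfEq ((maximalIdeal_trunc p k n hn).trans (ker_c0 p k n hn).symm)).trans
    (RingHom.quotientKerEquivOfSurjective (c0_surjective p k n hn))

theorem resEquiv_residue [IsLocalRing (TruncatedWittVector p n k)] (hn : 0 < n)
    (x : TruncatedWittVector p n k) :
    resEquiv p k n hn (IsLocalRing.residue _ x) = c0 p k n hn x := rfl

/-- The endomorphism of the residue field induced by `f`. -/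
noncomputable def fbar [IsLocalRing (TruncatedWittVector p n k)] (hn : 0 < n) (f : k →+* k) :
    IsLocalRing.ResidueField (TruncatedWittVector p n k) →+*
      IsLocalRing.ResidueField (TruncatedWittVector p n k) :=
  (resEquiv p k n hn).symm.toRingHom.comp (f.comp (resEquiv p k n hn).toRingHom)

theorem fbar_spec [IsLocalRing (TruncatedWittVector p n k)] (hn : 0 < n) (f : k →+* k)
    (x : IsLocalRing.ResidueField (TruncatedWittVector p n k)) :
    resEquiv p k n hn (fbar p k n hn f x) = f (resEquiv p k n hn x) :=
  (resEquiv p k n hn).apply_symm_apply _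

theorem fbar_residue [IsLocalRing (TruncatedWittVector p n k)] (hn : 0 < n) (f : k →+* k)
    (r : TruncatedWittVector p n k) :
    fbar p k n hn f (IsLocalRing.residue _ r) = IsLocalRing.residue _ (WittGrp.truncMap p n f r) := by
  apply (resEquiv p k n hn).injective
  rw [fbar_spec, resEquiv_residue, resEquiv_residue, c0_truncMap]

theorem fbar_surjective [IsLocalRing (TruncatedWittVector p n k)] (hn : 0 < n) (f : k →+* k)
    (hf : Function.Surjective f) : Function.Surjective (fbar p k n hn f) := by
  intro x
  obtain ⟨y, hy⟩ := hf (resEquiv p k n hn x)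
  refine ⟨(resEquiv p k n hn).symm y, ?_⟩
  apply (resEquiv p k n hn).injective
  rw [fbar_spec, RingEquiv.apply_symm_apply, hy]

omit [PerfectRing k p] in
theorem subsingleton_zero : Subsingleton (TruncatedWittVector p 0 k) :=
  ⟨fun _ _ => TruncatedWittVector.ext fun i => i.elim0⟩

theorem sub_surjective_trunc (f : k →+* k) (hf : Function.Surjective f) (h2 : Cond2 f)
    (h3 : Cond3 f) (M : Type v) [AddCommGroup M]
    [Module (TruncatedWittVector p n k) M] [Module.Finite (TruncatedWittVector p n k) M]
    (T : M →ₛₗ[WittGrp.truncMap p n f] M) : Function.Surjective (fun m : M => T m - m) := by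
  rcases Nat.eq_zero_or_pos n with rfl | hn
  · have := subsingleton_zero p k
    have := Module.subsingleton (TruncatedWittVector p 0 k) M
    exact fun x => ⟨x, Subsingleton.elim _ _⟩
  · have := isLocalRing_trunc p k n hn
    have h := sub_surjective_local (maximalIdeal_trunc p k n hn) n (p_pow_eq_zero p k n)
      (fbar_residue p k n hn f) (fbar_surjective p k n hn f hf)
      (cond2_transfer _ f _ (fbar_spec p k n hn f) h2)
      (cond3_transfer _ f _ (fbar_spec p k n hn f) h3) T
    intro x
    obtain ⟨y, hy⟩ := h (-x)
    refine ⟨y, ?_⟩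
    show T y - y = x
    have hy' : y - T y = -x := hy
    rw [← neg_sub, hy', neg_neg]

theorem finite_fixed_trunc (f : k →+* k) (hfin : {x : k | f x = x}.Finite)
    (M : Type v) [AddCommGroup M]
    [Module (TruncatedWittVector p n k) M] [Module.Finite (TruncatedWittVector p n k) M]
    (T : M →ₛₗ[WittGrp.truncMap p n f] M) : {m : M | T m = m}.Finite := by
  rcases Nat.eq_zero_or_pos n with rfl | hn
  · have := subsingleton_zero p k
    have := Module.subsingleton (TruncatedWittVector p 0 k) M
    exact Set.toFinite _
  · have := isLocalRing_trunc p k n hn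
    have hfg := fixSub_fg (σ := WittGrp.truncMap p n f) (maximalIdeal_trunc p k n hn)
      (fbar_residue p k n hn f) (by
        intro x hx
        have hx' : f (resEquiv p k n hn x) = resEquiv p k n hn x := by
          rw [← fbar_spec, hx]
        refine ⟨WittVector.truncate n (WittVector.teichmuller p (resEquiv p k n hn x)), ?_, ?_⟩
        · rw [WittGrp.truncMap_truncate, WittVector.map_teichmuller, hx']
        · apply (resEquiv p k n hn).injective
          rw [resEquiv_residue, c0_truncate]
          exact WittVector.teichmuller_coeff_zero p _) n M T (fun m => by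
            rw [p_pow_eq_zero, zero_smul])
    have hF : Finite (fixRing (WittGrp.truncMap p n f)) := by
      have := hfin.to_subtype
      apply Finite.of_injective
        (fun (x : fixRing (WittGrp.truncMap p n f)) (i : Fin n) =>
          (⟨(x : TruncatedWittVector p n k).coeff i, by
            have h := congrArg (TruncatedWittVector.coeff i)
              (show WittGrp.truncMap p n f x = x from x.2)
            rwa [WittGrp.coeff_truncMap] at h⟩ : {x : k | f x = x}))
      intro x y hxy
      apply Subtype.ext
      apply TruncatedWittVector.ext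
      intro i
      exact congrArg Subtype.val (congrFun hxy i)
    have hfin' : Module.Finite (fixRing (WittGrp.truncMap p n f)) (fixSub T) :=
      Module.Finite.iff_fg.2 hfg
    have : Finite (fixSub T) := Module.finite_of_finite (fixRing (WittGrp.truncMap p n f))
    exact this

end Witt

theorem finite_fixed_frobenius (p : ℕ) [hp : Fact p.Prime] (k : Type u) [Field k] [CharP k p] :
    {x : k | frobenius k p x = x}.Finite := by
  classical
  have h : {x : k | frobenius k p x = x} ⊆
      ((Polynomial.X ^ p - Polynomial.X : Polynomial k).roots.toFinset : Set k) := by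
    intro x hx
    have hne : (Polynomial.X ^ p - Polynomial.X : Polynomial k) ≠ 0 :=
      FiniteField.X_pow_card_sub_X_ne_zero k hp.out.one_lt
    have hx' : x ^ p = x := hx
    simp [hne, hx']
  exact (Finset.finite_toSet _).subset h

theorem finite_fixed_frobeniusInv (p : ℕ) [hp : Fact p.Prime] (k : Type u) [Field k] [CharP k p]
    [PerfectRing k p] : {x : k | (frobeniusEquiv k p).symm.toRingHom x = x}.Finite := by
  refine (finite_fixed_frobenius p k).subset fun x hx => ?_
  have hx' : (frobeniusEquiv k p).symm x = x := hx
  show frobenius k p x = x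
  conv_lhs => rw [← hx']
  exact frobenius_apply_frobeniusEquiv_symm k p x

end K985.SigmaLin
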